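import Cfsg.Agent.MaxSub.CompLen.Power

/-!
Subgroups of a power of a non-abelian simple group with full projections are twisted diagonals.
-/

set_option autoImplicit false

namespace Cfsg.Agent.FG72.Scott

open Cfsg.Agent.MaxSub.CompLen

variable {T : Type*} [Group T] {ι : Type*}

/-- Two coordinates with the same kernel on `L`. -/
def Linked (L : Subgroup (ι → T)) : Setoid ι where
  r i j := ∀ x ∈ L, x i = 1 ↔ x j = 1
  iseqv := ⟨fun _ _ _ => Iff.rfl, fun h x hx => (h x hx).symm,
    fun h h' x hx => (h x hx).trans (h' x hx)⟩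

theorem exists_link (L : Subgroup (ι → T)) (hsub : ∀ i, ∀ t : T, ∃ x ∈ L, x i = t) [Finite T]
    {i j : ι} (h : (Linked L).r i j) : ∃ θ : T ≃* T, ∀ x ∈ L, x j = θ (x i) := by
  choose u hu hui using hsub i
  have key : ∀ x ∈ L, x j = u (x i) j := fun x hx => by
    have hm : x * (u (x i))⁻¹ ∈ L := mul_mem hx (inv_mem (hu _))
    exact mul_inv_eq_one.1 ((h _ hm).1 (by simp [hui]))
  let θ : T →* T := MonoidHom.mk' (fun t => u t j) fun a b => by
    have h1 := key (u a * u b) (mul_mem (hu a) (hu b))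
    simp only [Pi.mul_apply, hui] at h1
    exact h1.symm
  have hinj : Function.Injective θ := by
    rw [injective_iff_map_eq_one]
    intro t ht
    have h1 := (h (u t) (hu t)).2 ht
    rwa [hui] at h1
  exact ⟨MulEquiv.ofBijective θ ⟨hinj, Finite.injective_iff_surjective.1 hinj⟩, key⟩

variable [IsSimpleGroup T]

/-- Values on pairwise unlinked coordinates are arbitrary. -/
theorem exists_prescribed [Finite T] (hna : ¬ IsMulCommutative T) (L : Subgroup (ι → T))
    (hsub : ∀ i, ∀ t : T, ∃ x ∈ L, x i = t) (S : Finset ι)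
    (hS : ∀ i ∈ S, ∀ j ∈ S, (Linked L).r i j → i = j) (f : ι → T) :
    ∃ x ∈ L, ∀ i ∈ S, x i = f i := by
  classical
  induction S using Finset.induction_on generalizing f with
  | empty => exact ⟨1, one_mem _, fun i hi => absurd hi (Finset.notMem_empty i)⟩
  | @insert k S hk ih =>
    have ih' := ih fun i hi j hj h => hS i (Finset.mem_insert_of_mem hi) j (Finset.mem_insert_of_mem hj) h
    obtain ⟨y, hy, hy'⟩ := ih' f
    let D : Subgroup (ι → T) :=
      { carrier := {x | x ∈ L ∧ ∀ i ∈ S, x i = 1}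
        one_mem' := ⟨one_mem _, fun _ _ => rfl⟩
        mul_mem' := fun ha hb => ⟨mul_mem ha.1 hb.1, fun i hi => by simp [ha.2 i hi, hb.2 i hi]⟩
        inv_mem' := fun ha => ⟨inv_mem ha.1, fun i hi => by simp [ha.2 i hi]⟩ }
    have hn : (D.map (Pi.evalMonoidHom (fun _ => T) k)).Normal := by
      refine ⟨?_⟩
      rintro _ ⟨d, hd, rfl⟩ t
      obtain ⟨x, hx, rfl⟩ := hsub k t
      exact ⟨x * d * x⁻¹, ⟨mul_mem (mul_mem hx hd.1) (inv_mem hx), fun i hi => by simp [hd.2 i hi]⟩, rfl⟩
    rcases hn.eq_bot_or_eq_top with hb | htop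
    · exfalso
      choose u hu hu' using fun z : ↥(S : Set ι) → T =>
        ih' fun i => if hi : i ∈ S then z ⟨i, hi⟩ else 1
      have hval : ∀ z (i : ↥(S : Set ι)), u z i = z i := fun z i => by
        rw [hu' z i i.2, dif_pos (Finset.mem_coe.1 i.2)]
      have key : ∀ x ∈ L, x k = u (fun i => x i) k := fun x hx => by
        have h1 : (x * (u fun i => x i)⁻¹) k ∈ D.map (Pi.evalMonoidHom (fun _ => T) k) :=
          ⟨_, ⟨mul_mem hx (inv_mem (hu _)), fun i hi => by
            rw [Pi.mul_apply, Pi.inv_apply, hval _ ⟨i, hi⟩, mul_inv_cancel]⟩, rfl⟩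
        rw [hb, Subgroup.mem_bot] at h1
        exact mul_inv_eq_one.1 h1
      let g : (↥(S : Set ι) → T) →* T := MonoidHom.mk' (fun z => u z k) fun a b => by
        have h1 := key (u a * u b) (mul_mem (hu a) (hu b))
        simp only [Pi.mul_apply, hval] at h1
        exact h1.symm
      have hsurj : Function.Surjective g := fun t => by
        obtain ⟨x, hx, rfl⟩ := hsub k t
        exact ⟨fun i => x i, (key x hx).symm⟩
      obtain ⟨j, φ, hφ⟩ := surj_factor hna g hsurj
      have hkey2 : ∀ x ∈ L, x k = φ (x j) := fun x hx => (key x hx).trans (hφ _)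
      have hkj : k = (j : ι) := hS k (Finset.mem_insert_self k S) j (Finset.mem_insert_of_mem j.2)
        fun x hx => by rw [hkey2 x hx, map_eq_one_iff _ φ.injective]
      exact hk (hkj ▸ j.2)
    · obtain ⟨d, hd, hdk⟩ : (y k)⁻¹ * f k ∈ D.map (Pi.evalMonoidHom (fun _ => T) k) :=
        htop ▸ Subgroup.mem_top _
      refine ⟨y * d, mul_mem hy hd.1, fun i hi => ?_⟩
      rcases Finset.mem_insert.1 hi with rfl | hi
      · rw [Pi.mul_apply, show d i = (y i)⁻¹ * f i from hdk, mul_inv_cancel_left]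
      · rw [Pi.mul_apply, hd.2 i hi, mul_one, hy' i hi]

end Cfsg.Agent.FG72.Scott
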